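import Mathlib
import Cfsg.Prelude.Def_Classical

/-!
Owner: helper11. The split extension of the Heisenberg group of order 27 by SL(2,3), as the
stabiliser of a vector in Sp(4,3).
-/

set_option autoImplicit false
set_option linter.all false
set_option maxHeartbeats 800000

namespace CfsgLib.Recog.HeisSL

open Matrix

abbrev K := ZMod 3
abbrev S2 := Matrix.SpecialLinearGroup (Fin 2) K

/-- The alternating form on the plane. -/
def om (v w : Fin 2 → K) : K := v 0 * w 1 - v 1 * w 0

/-- The action on the plane. -/
def app (g : S2) (v : Fin 2 → K) : Fin 2 → K :=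
  ![g.1 0 0 * v 0 + g.1 0 1 * v 1, g.1 1 0 * v 0 + g.1 1 1 * v 1]

theorem det_one (g : S2) : g.1 0 0 * g.1 1 1 - g.1 0 1 * g.1 1 0 = 1 := by
  rw [← Matrix.det_fin_two]; exact g.2

theorem app_one (v : Fin 2 → K) : app 1 v = v := by
  ext i; fin_cases i <;> simp [app]

theorem app_mul (g h : S2) (v : Fin 2 → K) : app (g * h) v = app g (app h v) := by
  ext i
  fin_cases i <;>
    simp [app, Matrix.SpecialLinearGroup.coe_mul, Matrix.mul_apply, Fin.sum_univ_two] <;> ring

theorem app_add (g : S2) (v w : Fin 2 → K) : app g (v + w) = app g v + app g w := by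
  ext i; fin_cases i <;> simp [app] <;> ring

theorem app_zero (g : S2) : app g 0 = 0 := by
  ext i; fin_cases i <;> simp [app]

theorem app_neg (g : S2) (v : Fin 2 → K) : app g (-v) = -app g v := by
  ext i; fin_cases i <;> simp [app] <;> ring

theorem om_app (g : S2) (v w : Fin 2 → K) : om (app g v) (app g w) = om v w := by
  simp only [om, app, Matrix.cons_val_zero, Matrix.cons_val_one]
  linear_combination (v 0 * w 1 - v 1 * w 0) * det_one g

@[ext] structure W where
  v : Fin 2 → K
  s : K
  g : S2

def toProd : W ≃ (Fin 2 → K) × K × S2 where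
  toFun w := (w.v, w.s, w.g)
  invFun x := ⟨x.1, x.2.1, x.2.2⟩
  left_inv _ := rfl
  right_inv _ := rfl

instance : Finite W := Finite.of_equiv _ toProd.symm

instance : Mul W := ⟨fun a b => ⟨a.v + app a.g b.v, a.s + b.s + om a.v (app a.g b.v), a.g * b.g⟩⟩
instance : One W := ⟨⟨0, 0, 1⟩⟩
instance : Inv W := ⟨fun a => ⟨-app a.g⁻¹ a.v, -a.s, a.g⁻¹⟩⟩

theorem mul_def (a b : W) :
    a * b = ⟨a.v + app a.g b.v, a.s + b.s + om a.v (app a.g b.v), a.g * b.g⟩ := rfl

theorem one_def : (1 : W) = ⟨0, 0, 1⟩ := rfl

theorem inv_def (a : W) : a⁻¹ = ⟨-app a.g⁻¹ a.v, -a.s, a.g⁻¹⟩ := rfl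

theorem om_add_left (u v w : Fin 2 → K) : om (u + v) w = om u w + om v w := by
  simp only [om, Pi.add_apply]; ring

theorem om_add_right (u v w : Fin 2 → K) : om u (v + w) = om u v + om u w := by
  simp only [om, Pi.add_apply]; ring

instance : Group W :=
  Group.ofLeftAxioms
    (fun a b c => by
      ext1
      · simp only [mul_def, app_mul, app_add, add_assoc]
      · simp only [mul_def, app_mul, app_add, om_add_left, om_add_right, om_app]; ring
      · simp only [mul_def, mul_assoc])
    (fun a => by
      ext1
      · simp [mul_def, one_def, app_one]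
      · simp [mul_def, one_def, om]
      · simp [mul_def, one_def])
    (fun a => by
      ext1
      · simp [mul_def, one_def, inv_def]
      · simp only [mul_def, one_def, inv_def, om, Pi.neg_apply]; ring
      · simp [mul_def, one_def, inv_def])

theorem app_ext {g h : S2} (he : ∀ v, app g v = app h v) : g = h := by
  ext i j
  have h0 := congrFun (he ![1, 0]) i
  have h1 := congrFun (he ![0, 1]) i
  fin_cases i <;> fin_cases j <;> simp [app] at h0 h1 ⊢ <;> assumption

theorem card_S2 : Nat.card S2 = 24 := by
  rw [Nat.card_eq_fintype_card]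
  decide +kernel

theorem card_W : Nat.card W = 648 := by
  rw [Nat.card_congr toProd, Nat.card_prod, Nat.card_prod, card_S2, Nat.card_fun, Nat.card_zmod,
    Nat.card_fin]
  norm_num

/-- The central element. -/
def z0 : W := ⟨0, 1, 1⟩

theorem z0_comm (w : W) : w * z0 = z0 * w := by
  ext1 <;> simp [mul_def, z0, app_zero, app_one, om, add_comm]

theorem orderOf_z0 : orderOf z0 = 3 := by
  haveI := Fact.mk Nat.prime_three
  refine orderOf_eq_prime ?_ ?_
  · rw [pow_three]
    ext1
    · simp [mul_def, one_def, z0, app_zero]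
    · simp [mul_def, one_def, z0, app_zero, om]
      decide
    · simp [mul_def, one_def, z0]
  · intro h
    have := congrArg W.s h
    simp [one_def, z0] at this

end CfsgLib.Recog.HeisSL
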