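import Cfsg.Agent.Lib.Recog.HeisSL.Basic
import Cfsg.Agent.Lib.Classical.Symplectic.MatrixStructure

/-!
Owner: helper11. The centraliser of a central element of order three in PSp(4,3).
-/

set_option autoImplicit false
set_option linter.all false
set_option maxHeartbeats 800000

namespace CfsgLib.Recog.HeisSL

open Matrix Subgroup

abbrev I4 := Fin 2 ⊕ Fin 2
abbrev Sp4 := Matrix.symplecticGroup (Fin 2) K

/-- The matrix of an element of the model. -/
def mat (w : W) : Matrix I4 I4 K :=
  fromBlocks !![1, -om ![w.g.1 0 0, w.g.1 1 0] w.v; 0, w.g.1 0 0]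
    !![w.s, -om ![w.g.1 0 1, w.g.1 1 1] w.v; w.v 0, w.g.1 0 1]
    !![0, 0; 0, w.g.1 1 0] !![1, 0; w.v 1, w.g.1 1 1]

theorem mat_mem (w : W) : mat w ∈ Sp4 := by
  rw [SymplecticGroup.mem_iff']
  have hd := det_one w.g
  ext i j
  rcases i with i | i <;> rcases j with j | j <;> fin_cases i <;> fin_cases j <;>
    simp [mat, Matrix.J, Matrix.mul_apply, Fintype.sum_sum_type, Fin.sum_univ_two, om] <;>
    first | ring1 | linear_combination hd | linear_combination -hd

theorem mat_mul (a b : W) : mat (a * b) = mat a * mat b := by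
  have hd := det_one a.g
  ext i j
  rcases i with i | i <;> rcases j with j | j <;> fin_cases i <;> fin_cases j <;>
    simp [mat, mul_def, app, Matrix.mul_apply, Fintype.sum_sum_type, Fin.sum_univ_two, om,
      Matrix.SpecialLinearGroup.coe_mul, Matrix.vecHead, Matrix.vecTail] <;>
    first
    | ring1
    | linear_combination (b.g.1 0 0 * b.v 1 - b.g.1 1 0 * b.v 0) * hd
    | linear_combination -(b.g.1 0 0 * b.v 1 - b.g.1 1 0 * b.v 0) * hd
    | linear_combination (b.g.1 0 1 * b.v 1 - b.g.1 1 1 * b.v 0) * hd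
    | linear_combination -(b.g.1 0 1 * b.v 1 - b.g.1 1 1 * b.v 0) * hd

theorem mat_one : mat 1 = 1 := by
  ext i j
  rcases i with i | i <;> rcases j with j | j <;> fin_cases i <;> fin_cases j <;>
    simp [mat, one_def, om]

theorem mat_injective : Function.Injective mat := by
  intro a b h
  have e := fun i j => congrFun (congrFun h i) j
  ext1
  · ext i
    fin_cases i
    · simpa [mat] using e (.inl 1) (.inr 0)
    · simpa [mat] using e (.inr 1) (.inr 0)
  · simpa [mat] using e (.inl 0) (.inr 0)
  · ext i j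
    fin_cases i <;> fin_cases j
    · simpa [mat] using e (.inl 1) (.inl 1)
    · simpa [mat] using e (.inl 1) (.inr 1)
    · simpa [mat] using e (.inr 1) (.inl 1)
    · simpa [mat] using e (.inr 1) (.inr 1)

/-- The embedding in the symplectic group. -/
def emb : W →* Sp4 where
  toFun w := ⟨mat w, mat_mem w⟩
  map_one' := Subtype.ext mat_one
  map_mul' a b := Subtype.ext (mat_mul a b)

/-- Minus the identity. -/
def negI : Sp4 := ⟨-1, SymplecticGroup.neg_mem (one_mem _)⟩

theorem coe_negI : (negI : Sp4).1 = -1 := rfl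

theorem mem_center_iff (g : Sp4) : g ∈ center Sp4 ↔ g = 1 ∨ g = negI := by
  classical
  have hc : Nat.card (center Sp4) = 2 := by
    rw [Classical.Symp.card_center_symplecticGroup (by norm_num)]
    rfl
  have hm : negI ∈ center Sp4 := Subgroup.mem_center_iff.2 fun y => Subtype.ext (by
    show y.1 * (-(1 : Matrix I4 I4 K)) = (-(1 : Matrix I4 I4 K)) * y.1
    simp)
  have hne : (1 : Sp4) ≠ negI := fun h => by
    have h1 := congrFun (congrFun (congrArg Subtype.val h) (.inl 0)) (.inl 0)
    change (1 : Matrix I4 I4 K) (.inl 0) (.inl 0) = (-(1 : Matrix I4 I4 K)) (.inl 0) (.inl 0) at h1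
    simp at h1
    exact absurd h1 (by decide)
  constructor
  · intro hg
    by_contra hcon
    push Not at hcon
    have hle : ({1, negI, g} : Finset Sp4).card ≤ Nat.card (center Sp4) := by
      rw [← Nat.card_eq_finsetCard]
      refine Nat.card_le_card_of_injective (fun x => (⟨x.1, ?_⟩ : center Sp4))
        (fun x y h => Subtype.ext (congrArg (fun z : center Sp4 => (z : Sp4)) h))
      rcases Finset.mem_insert.1 x.2 with h | h
      · rw [h]; exact one_mem _
      rcases Finset.mem_insert.1 h with h | h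
      · rw [h]; exact hm
      · rw [Finset.mem_singleton.1 h]; exact hg
    rw [hc, Finset.card_insert_of_notMem (by simp [hne, Ne.symm hcon.1]),
      Finset.card_pair (Ne.symm hcon.2)] at hle
    omega
  · rintro (rfl | rfl)
    · exact one_mem _
    · exact hm

abbrev P4 := Cfsg.PSp 2 K

/-- The embedding in the projective group. -/
def proj : W →* P4 := (QuotientGroup.mk' (center Sp4)).comp emb

theorem proj_injective : Function.Injective proj := by
  refine (injective_iff_map_eq_one _).2 fun w hw => mat_injective ?_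
  rcases (mem_center_iff _).1 ((QuotientGroup.eq_one_iff (emb w)).1 hw) with h | h
  · exact (congrArg Subtype.val h).trans mat_one.symm
  · have h1 := congrFun (congrFun (congrArg Subtype.val h) (.inl 0)) (.inl 0)
    change mat w (.inl 0) (.inl 0) = (-(1 : Matrix I4 I4 K)) (.inl 0) (.inl 0) at h1
    simp [mat] at h1
    exact absurd h1 (by decide)

theorem range_eq : proj.range = centralizer ({proj z0} : Set P4) := by
  refine le_antisymm ?_ ?_
  · rintro _ ⟨w, rfl⟩
    rw [mem_centralizer_singleton_iff, ← map_mul, ← map_mul, z0_comm]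
  intro x hx
  obtain ⟨g, rfl⟩ := QuotientGroup.mk_surjective x
  rw [mem_centralizer_singleton_iff] at hx
  have hk := QuotientGroup.eq.1 (show ((g * emb z0 : Sp4) : P4) = ((emb z0 * g : Sp4) : P4) from hx)
  have hcase : g.1 * mat z0 = mat z0 * g.1 ∨ g.1 * mat z0 = -(mat z0 * g.1) := by
    rcases (mem_center_iff _).1 hk with h | h
    · exact Or.inl (congrArg Subtype.val (inv_mul_eq_one.1 h))
    · right
      have h2 : emb z0 * g = g * emb z0 * negI := inv_mul_eq_iff_eq_mul.1 h
      have h3 : (mat z0 * g.1) = g.1 * mat z0 * (-(1 : Matrix I4 I4 K)) := congrArg Subtype.val h2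
      rw [h3]
      simp
  have hsym := (SymplecticGroup.mem_iff').1 g.2
  have s := fun i j => congrFun (congrFun hsym i) j
  rcases hcase with h | h
  · have e := fun i j => congrFun (congrFun h i) j
    have c1 : g.1 (.inl 1) (.inl 0) = 0 := by
      simpa [mat, z0, om, Matrix.mul_apply, Fintype.sum_sum_type, Fin.sum_univ_two] using e (.inl 1) (.inr 0)
    have c2 : g.1 (.inr 0) (.inl 0) = 0 := by
      simpa [mat, z0, om, Matrix.mul_apply, Fintype.sum_sum_type, Fin.sum_univ_two] using e (.inr 0) (.inr 0)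
    have c3 : g.1 (.inr 1) (.inl 0) = 0 := by
      simpa [mat, z0, om, Matrix.mul_apply, Fintype.sum_sum_type, Fin.sum_univ_two] using e (.inr 1) (.inr 0)
    have r1 : g.1 (.inr 0) (.inl 1) = 0 := by
      simpa [mat, z0, om, Matrix.mul_apply, Fintype.sum_sum_type, Fin.sum_univ_two] using e (.inl 0) (.inl 1)
    have r2 : g.1 (.inr 0) (.inr 1) = 0 := by
      simpa [mat, z0, om, Matrix.mul_apply, Fintype.sum_sum_type, Fin.sum_univ_two] using e (.inl 0) (.inr 1)
    have hd : g.1 (.inl 0) (.inl 0) = g.1 (.inr 0) (.inr 0) := by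
      have := e (.inl 0) (.inr 0)
      simp [mat, z0, om, Matrix.mul_apply, Fintype.sum_sum_type, Fin.sum_univ_two] at this
      first | exact this | linear_combination this
    have ha2 : g.1 (.inl 0) (.inl 0) = 1 ∨ g.1 (.inl 0) (.inl 0) = -1 := by
      have h0 : g.1 (.inl 0) (.inl 0) ≠ 0 := by
        intro h0
        have := s (.inl 0) (.inr 0)
        simp [Matrix.J, Matrix.mul_apply, Fintype.sum_sum_type, Fin.sum_univ_two, c1, c2, c3,
          h0] at this
      exact (by decide : ∀ x : K, x ≠ 0 → x = 1 ∨ x = -1) _ h0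
    clear hk e hsym hx
    wlog hap : g.1 (.inl 0) (.inl 0) = 1 generalizing g with H
    · have hgn : (g * negI : Sp4).1 = -g.1 := by
        show g.1 * (-(1 : Matrix I4 I4 K)) = -g.1
        simp
      have hneg : ((g * negI : Sp4) : P4) = (g : P4) := by
        rw [QuotientGroup.eq, mem_center_iff]
        right
        rw [inv_mul_eq_iff_eq_mul]
        exact Subtype.ext (by
          show g.1 = (g * negI : Sp4).1 * (-(1 : Matrix I4 I4 K))
          rw [hgn]; simp)
      rw [← hneg]
      refine H (g * negI) ?_ ?_ ?_ ?_ ?_ ?_ ?_ ?_ ?_ ?_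
      all_goals first
        | (simp [hgn, c1, c2, c3, r1, r2, ← hd, ha2.resolve_left hap]; done)
        | (intro i j; rw [hgn]; simpa using s i j)
        | (rw [hgn, Matrix.neg_mul, Matrix.mul_neg, h])
    let h' : Matrix (Fin 2) (Fin 2) K :=
      !![g.1 (.inl 1) (.inl 1), g.1 (.inl 1) (.inr 1); g.1 (.inr 1) (.inl 1), g.1 (.inr 1) (.inr 1)]
    have hh : h'.det = 1 := by
      have := s (.inl 1) (.inr 1)
      simp [Matrix.J, Matrix.mul_apply, Fintype.sum_sum_type, Fin.sum_univ_two, r1, r2] at this
      simp [h', Matrix.det_fin_two]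
      linear_combination -this
    refine ⟨⟨![g.1 (.inl 1) (.inr 0), g.1 (.inr 1) (.inr 0)], g.1 (.inl 0) (.inr 0), ⟨h', hh⟩⟩,
      congrArg (QuotientGroup.mk' (center Sp4)) (Subtype.ext ?_)⟩
    have l0 := s (.inl 1) (.inr 0)
    have l1 := s (.inr 1) (.inr 0)
    simp [Matrix.J, Matrix.mul_apply, Fintype.sum_sum_type, Fin.sum_univ_two, r1, r2] at l0 l1
    rw [← hd, hap] at l0 l1
    ext i j
    show mat _ i j = g.1 i j
    rcases i with i | i <;> rcases j with j | j <;> fin_cases i <;> fin_cases j <;>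
      simp [mat, h', om, c1, c2, c3, r1, r2, ← hd, hap] <;>
      first | linear_combination l0 | linear_combination -l0 | linear_combination l1 | linear_combination -l1
  · exfalso
    have e := fun i j => congrFun (congrFun h i) j
    have col : ∀ i, i ≠ Sum.inl 0 → g.1 i (.inl 0) = 0 := by
      intro i hi
      have := e i (.inl 0)
      rcases i with i | i <;> fin_cases i <;>
        simp [mat, z0, om, Matrix.mul_apply, Fintype.sum_sum_type, Fin.sum_univ_two] at this hi ⊢ <;>
        (revert this; generalize g.1 _ _ = y; revert y; decide)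
    have h00 : g.1 (.inl 0) (.inl 0) = 0 := by
      have := e (.inl 0) (.inl 0)
      simp [mat, z0, om, Matrix.mul_apply, Fintype.sum_sum_type, Fin.sum_univ_two,
        col (.inr 0) (by simp)] at this
      revert this; generalize g.1 _ _ = y; revert y; decide
    have := s (.inl 0) (.inr 0)
    simp [Matrix.J, Matrix.mul_apply, Fintype.sum_sum_type, Fin.sum_univ_two, h00,
      col (.inl 1) (by simp), col (.inr 0) (by simp), col (.inr 1) (by simp)] at this

theorem card_P4 : Nat.card P4 = 25920 := by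
  have h := Classical.Symp.gcd_mul_card_psp (F := K) (m := 2) (by norm_num)
  norm_num [ZMod.card, Finset.prod_range_succ] at h
  change Nat.card (Cfsg.PSp 2 K) = 25920
  omega

/-- The model is the centraliser of a central element of order three. -/
theorem exists_model :
    ∃ (c : P4) (S : Sylow 3 P4), orderOf c = 3 ∧ c ∈ (S : Subgroup P4) ∧
      c ∈ centralizer ((S : Subgroup P4) : Set P4) ∧
      Nonempty (W ≃* centralizer ({c} : Set P4)) := by
  haveI := Fact.mk Nat.prime_three
  set c := proj z0 with hc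
  have ho : orderOf c = 3 := by
    rw [hc, orderOf_injective proj proj_injective, orderOf_z0]
  obtain ⟨Q, hQ⟩ : ∃ Q : Sylow 3 W, zpowers z0 ≤ (Q : Subgroup W) :=
    (IsPGroup.of_card (n := 1) (by rw [Nat.card_zpowers, orderOf_z0, pow_one])).exists_le_sylow
  have hS : Nat.card ((Q : Subgroup W).map proj) = 3 ^ (Nat.card P4).factorization 3 := by
    rw [card_map_of_injective proj_injective, Q.card_eq_multiplicity, card_W, card_P4,
      show (648 : ℕ) = 3 ^ 4 * 8 by norm_num, show (25920 : ℕ) = 3 ^ 4 * 320 by norm_num,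
      Nat.factorization_mul (by norm_num) (by norm_num),
      Nat.factorization_mul (by norm_num) (by norm_num)]
    simp [Nat.factorization_eq_zero_of_not_dvd (show ¬ 3 ∣ 8 by norm_num),
      Nat.factorization_eq_zero_of_not_dvd (show ¬ 3 ∣ 320 by norm_num)]
  refine ⟨c, Sylow.ofCard _ hS, ho, ?_, ?_, ⟨?_⟩⟩
  · rw [Sylow.coe_ofCard]
    exact mem_map_of_mem proj (hQ (mem_zpowers z0))
  · rw [Sylow.coe_ofCard, mem_centralizer_iff]
    rintro _ ⟨w, -, rfl⟩
    rw [hc, ← map_mul, ← map_mul, z0_comm]
  · exact (MonoidHom.ofInjective proj_injective).trans (MulEquiv.subgroupCongr range_eq)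

/-- The same over any field of three elements. -/
theorem exists_model' (F : Type*) [Field F] [Fintype F] (hF : Fintype.card F = 3) :
    ∃ (c : Cfsg.PSp 2 F) (S : Sylow 3 (Cfsg.PSp 2 F)), orderOf c = 3 ∧
      c ∈ (S : Subgroup (Cfsg.PSp 2 F)) ∧
      c ∈ centralizer ((S : Subgroup (Cfsg.PSp 2 F)) : Set (Cfsg.PSp 2 F)) ∧
      Nonempty (W ≃* centralizer ({c} : Set (Cfsg.PSp 2 F))) := by
  haveI := Fact.mk Nat.prime_three
  let f : K ≃+* F := ZMod.ringEquivOfPrime F Nat.prime_three hF
  let Φ : Sp4 ≃* Matrix.symplecticGroup (Fin 2) F :=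
    { toFun := fun g => ⟨g.1.map f.toRingHom, SymplecticGroup.map_mem g.2 f.toRingHom⟩
      invFun := fun g => ⟨g.1.map f.symm.toRingHom, SymplecticGroup.map_mem g.2 f.symm.toRingHom⟩
      left_inv := fun g => Subtype.ext (by ext i j; simp)
      right_inv := fun g => Subtype.ext (by ext i j; simp)
      map_mul' := fun g g' => Subtype.ext (Matrix.map_mul) }
  have hΦ : (center Sp4).map Φ.toMonoidHom = center (Matrix.symplecticGroup (Fin 2) F) := by
    ext x
    rw [Subgroup.mem_map, Subgroup.mem_center_iff]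
    constructor
    · rintro ⟨y, hy, rfl⟩ g
      obtain ⟨g', rfl⟩ := Φ.surjective g
      show Φ g' * Φ y = Φ y * Φ g'
      rw [← map_mul, Subgroup.mem_center_iff.1 hy g', map_mul]
    · intro hx
      obtain ⟨y, rfl⟩ := Φ.surjective x
      exact ⟨y, Subgroup.mem_center_iff.2 fun g => Φ.injective (by rw [map_mul, hx, map_mul]), rfl⟩
  let Ψ : P4 ≃* Cfsg.PSp 2 F := QuotientGroup.congr _ _ Φ hΦ
  obtain ⟨c, S, ho, hcS, hcc, ⟨i⟩⟩ := exists_model
  have himg : (centralizer ({c} : Set P4)).map Ψ.toMonoidHom = centralizer ({Ψ c} : Set (Cfsg.PSp 2 F)) := by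
    ext x
    obtain ⟨y, rfl⟩ := Ψ.surjective x
    rw [mem_map, mem_centralizer_singleton_iff, ← map_mul, ← map_mul, Ψ.injective.eq_iff]
    simp [mem_centralizer_singleton_iff]
  refine ⟨Ψ c, S.mapSurjective (f := Ψ.toMonoidHom) Ψ.surjective, (Ψ.orderOf_eq c).trans ho, ?_, ?_,
    ⟨i.trans ((Ψ.subgroupMap _).trans (MulEquiv.subgroupCongr himg))⟩⟩
  · exact mem_map_of_mem Ψ.toMonoidHom hcS
  · refine mem_centralizer_iff.2 ?_
    rintro _ ⟨y, hy, rfl⟩
    exact (map_mul Ψ y c).symm.trans ((congrArg Ψ (mem_centralizer_iff.1 hcc y hy)).trans (map_mul Ψ c y))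

end CfsgLib.Recog.HeisSL
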