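import Cfsg.Agent.Lib.Recog.HeisSL.Setup

/-!
Owner: helper11. Groups with a normal extraspecial subgroup of order 27 and quotient SL(2,3):
a complement and the isomorphism with the model.
-/

set_option autoImplicit false
set_option linter.all false
set_option maxHeartbeats 800000

namespace CfsgLib.Recog.HeisSL

open Subgroup

variable {X : Type*} [Group X] [Finite X]

theorem centralizer_three : ∀ a g : S2, a * (a * a) = 1 → a ≠ 1 →
    (g * a * g⁻¹ = a * a → False) ∧
      (g * a = a * g → g = 1 ∨ g = a ∨ g = a * a ∨ g = -1 ∨ g = -1 * a ∨ g = -1 * (a * a)) := by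
  decide +kernel

theorem commutator_hits_negOne : ∀ g : S2, g ≠ 1 →
    g = -1 ∨ ∃ a : S2, g * a * g⁻¹ * a⁻¹ * (g * a * g⁻¹ * a⁻¹) = -1 := by
  decide +kernel

theorem basis_decomp (v : Fin 2 → K) : v = v 0 • ![(1 : K), 0] + v 1 • ![(0 : K), 1] := by
  ext i; fin_cases i <;> simp

theorem om_collinear : ∀ v w : Fin 2 → K, v ≠ 0 → om v w = om w v → ∃ c : K, w = c • v := by
  decide +kernel

namespace Hyp

variable (h : Hyp X)

/-- The centraliser of the involution. -/
def H : Subgroup X := Subgroup.centralizer ({h.z} : Set X)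

theorem mem_H {g : X} : g ∈ h.H ↔ g * h.z = h.z * g := mem_centralizer_singleton_iff

theorem Z_le_H : h.Z ≤ h.H := fun c hc => (h.mem_H).2 (h.Zcentral hc h.z).symm

theorem z_mem_H : h.z ∈ h.H := h.mem_H.2 rfl

theorem H_inf {g : X} (hg : g ∈ h.H) (hr : g ∈ h.R) : g ∈ h.Z :=
  h.mem_Z_of_commute hr (h.mem_H.1 hg).symm

theorem decomp (g : X) : ∃ r ∈ h.R, ∃ n ∈ h.H, g = r * n := by
  obtain ⟨s, hs, hgs⟩ := h.z_conj_mem g
  have hsz : h.z * s * h.z = s⁻¹ := by
    refine eq_inv_of_mul_eq_one_left ?_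
    calc h.z * s * h.z * s = (h.z * s) * (h.z * s) := by group
      _ = g * (h.z * h.z) * g⁻¹ := by rw [← hgs]; group
      _ = 1 := by rw [h.z_sq]; group
  have hconj : s * h.z * s⁻¹ = h.z * s := by
    have hs3 := h.expR s hs
    have e : s * h.z = h.z * s⁻¹ := by
      calc s * h.z = (h.z * h.z) * s * h.z := by rw [h.z_sq, one_mul]
        _ = h.z * (h.z * s * h.z) := by group
        _ = _ := by rw [hsz]
    rw [e, mul_assoc]
    congr 1
    rw [inv_mul_eq_iff_eq_mul, eq_comm, ← mul_eq_one_iff_eq_inv]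
    rw [← hs3, pow_three, mul_assoc]
  refine ⟨s, hs, s⁻¹ * g, h.mem_H.2 ?_, (mul_inv_cancel_left s g).symm⟩
  have e2 : g * h.z = s * h.z * s⁻¹ * g := by
    rw [hconj, ← hgs, inv_mul_cancel_right]
  rw [mul_assoc, e2]
  group

theorem exists_lift (g : S2) : ∃ n ∈ h.H, h.π n = g := by
  obtain ⟨x, rfl⟩ := h.surj g
  obtain ⟨r, hr, n, hn, rfl⟩ := h.decomp x
  exact ⟨n, hn, by rw [map_mul, h.memR.1 hr, one_mul]⟩

theorem exists_three : ∃ t ∈ h.H, t ^ 3 = 1 ∧ h.π t ≠ 1 := by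
  obtain ⟨E, hEc, hE3, hE27⟩ := h.elem
  have hcomm : ∀ a ∈ E, ∀ b ∈ E, a * b = b * a := fun a ha b hb =>
    congrArg Subtype.val (hEc.is_comm.comm ⟨a, ha⟩ ⟨b, hb⟩)
  obtain ⟨u, hu, huR⟩ : ∃ u ∈ E, u ∉ h.R := by
    by_contra hcon
    push Not at hcon
    have he : E = h.R := Subgroup.eq_of_le_of_card_ge hcon (by rw [hE27, h.cardR])
    subst he
    exact h.xy_ne (hcomm _ h.y_inv.1 _ h.x_inv.1)
  obtain ⟨a, haE, haR, haZ⟩ : ∃ a ∈ E, a ∈ h.R ∧ a ∉ h.Z := by
    by_contra hcon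
    push Not at hcon
    let f : E →* S2 := h.π.comp E.subtype
    have h1 : Nat.card f.ker ≤ 3 := by
      refine le_of_le_of_eq ?_ h.cardZ
      exact Nat.card_le_card_of_injective
        (fun k : f.ker => (⟨(k.1 : X), hcon _ k.1.2 (h.memR.2 k.2)⟩ : h.Z))
        (fun a b e => by
          apply Subtype.ext; apply Subtype.ext
          exact congrArg (fun z : h.Z => (z : X)) e)
    have h2 : f.ker.index ∣ 24 := by
      rw [Subgroup.index_ker, ← card_S2]
      exact Subgroup.card_subgroup_dvd_card _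
    have h3 := f.ker.card_mul_index
    rw [hE27] at h3
    obtain ⟨j, hj, hj'⟩ := (Nat.dvd_prime_pow Nat.prime_three).1
      (show f.ker.index ∣ 3 ^ 3 from ⟨Nat.card f.ker, by rw [mul_comm]; omega⟩)
    have : Nat.card f.ker ≠ 0 := Nat.card_pos.ne'
    interval_cases j <;> rw [hj'] at h2 h3 <;> omega
  obtain ⟨v, s, rfl⟩ := h.iso_surj haR
  have hv : v ≠ 0 := fun e => haZ (h.iso_mem_Z.2 e)
  have hus : h.iso v 0 * u = u * h.iso v 0 := by
    have e : h.iso v 0 = h.iso v s * h.iso 0 (-s) := by rw [h.iso_mul]; simp [om]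
    rw [e, mul_assoc, ← h.Zcentral (h.iso_mem_Z.2 rfl) u, ← mul_assoc, hcomm _ haE u hu, mul_assoc]
  obtain ⟨r, hr, n, hn, hun⟩ := h.decomp u
  obtain ⟨w, t, hwt⟩ := h.iso_surj (h.conjR (h.iso_mem v 0) n)
  have hinv : h.Inv' (n * h.iso v 0 * n⁻¹) := by
    refine ⟨h.conjR (h.iso_mem v 0) n, ?_⟩
    have hnz := h.mem_H.1 hn
    have hnz' : n⁻¹ * h.z = h.z * n⁻¹ := by
      rw [inv_mul_eq_iff_eq_mul, ← mul_assoc, hnz, mul_inv_cancel_right]
    calc h.z * (n * h.iso v 0 * n⁻¹) * h.z = (h.z * n) * h.iso v 0 * (n⁻¹ * h.z) := by group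
      _ = n * (h.z * h.iso v 0 * h.z) * n⁻¹ := by rw [← hnz, hnz']; group
      _ = _ := by rw [(h.inv_iff.2 rfl).2]; group
  rw [hwt, h.inv_iff] at hinv
  subst hinv
  -- conjugation by the first factor fixes the element
  obtain ⟨w', t', rfl⟩ := h.iso_surj hr
  have hrn : h.iso w' t' * h.iso w 0 = h.iso v 0 * h.iso w' t' := by
    rw [← hwt, ← mul_assoc, ← mul_assoc, ← hun, ← hus, hun]
    group
  rw [h.iso_mul, h.iso_mul] at hrn
  obtain ⟨e1, e2⟩ := h.iso_inj hrn
  rw [add_comm v w', add_right_inj] at e1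
  subst e1
  obtain ⟨c, rfl⟩ := om_collinear w w' hv (by linear_combination -e2)
  have hru : h.iso (c • w) t' * u = u * h.iso (c • w) t' := by
    have e : h.iso (c • w) t' = pw (h.iso w 0) c * h.iso 0 t' := by
      rcases (by decide : ∀ c : K, c = 0 ∨ c = 1 ∨ c = -1) c with rfl | rfl | rfl
      · rw [pw_zero, zero_smul, one_mul]
      · rw [pw_one, one_smul, h.iso_mul]; simp [om]
      · rw [pw_neg (h.expR _ (h.iso_mem _ _)), pw_one, h.iso_inv, h.iso_mul]; simp [om]
    rw [e]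
    exact ((Commute.pow_left hus _).mul_left (h.Zcentral (h.iso_mem_Z.2 rfl) u).symm)
  have hn' : n = (h.iso (c • w) t')⁻¹ * u := by rw [hun, inv_mul_cancel_left]
  refine ⟨n, hn, ?_, fun e => huR ?_⟩
  · rw [hn', (Commute.inv_left hru).mul_pow, inv_pow, h.expR _ hr, hE3 u hu, inv_one, one_mul]
  · rw [hun]; exact mul_mem hr (h.memR.2 e)

/-- An element of order three outside the normal subgroup. -/
noncomputable def t : X := h.exists_three.choose

theorem t_mem : h.t ∈ h.H := h.exists_three.choose_spec.1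

theorem t_pow : h.t ^ 3 = 1 := h.exists_three.choose_spec.2.1

theorem π_t : h.π h.t ≠ 1 := h.exists_three.choose_spec.2.2

theorem orderOf_πt : orderOf (h.π h.t) = 3 := by
  haveI := Fact.mk Nat.prime_three
  exact orderOf_eq_prime (by rw [← map_pow, h.t_pow, map_one]) h.π_t

/-- Projection from the centraliser. -/
def pH : h.H →* S2 := h.π.comp h.H.subtype

theorem pH_surj : Function.Surjective h.pH := fun g => by
  obtain ⟨n, hn, e⟩ := h.exists_lift g
  exact ⟨⟨n, hn⟩, e⟩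

/-- The Sylow subgroup of the centraliser. -/
noncomputable def P : Subgroup h.H := (zpowers (h.π h.t)).comap h.pH

theorem P_eq {n : h.H} (hn : n ∈ h.P) : ∃ c ∈ h.Z, ∃ i : ℤ, (n : X) = c * h.t ^ i := by
  obtain ⟨i, hi⟩ := mem_zpowers_iff.1 hn
  refine ⟨n.1 * (h.t ^ i)⁻¹, h.H_inf (mul_mem n.2 (inv_mem (zpow_mem h.t_mem i))) ?_, i, by group⟩
  rw [h.memR, map_mul, map_inv, map_zpow, hi]
  exact mul_inv_cancel _

theorem P_comm {m n : h.H} (hm : m ∈ h.P) (hn : n ∈ h.P) : m * n = n * m := by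
  obtain ⟨c, hc, i, hi⟩ := h.P_eq hm
  obtain ⟨d, hd, j, hj⟩ := h.P_eq hn
  refine Subtype.ext ?_
  show (m : X) * n = n * m
  rw [hi, hj]
  have h1 : ∀ x : X, Commute c x := fun x => (h.Zcentral hc x).symm
  have h2 : ∀ x : X, Commute d x := fun x => (h.Zcentral hd x).symm
  exact (h1 _).mul_left (((h2 _).symm).mul_right ((Commute.refl h.t).zpow_zpow i j))

theorem card_pH_ker : Nat.card h.pH.ker = 3 := by
  refine Eq.trans ?_ h.cardZ
  refine Nat.card_congr ⟨fun k => ⟨k.1.1, h.H_inf k.1.2 (h.memR.2 k.2)⟩,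
    fun c => ⟨⟨c.1, h.Z_le_H c.2⟩, h.memR.1 (h.ZR c.2)⟩, fun _ => rfl, fun _ => rfl⟩

theorem card_P : Nat.card h.P = 9 := by
  have hH := h.pH.ker.card_mul_index
  rw [h.card_pH_ker, Subgroup.index_ker, MonoidHom.range_eq_top.2 h.pH_surj, card_top, card_S2] at hH
  have hP := h.P.card_mul_index
  rw [P, Subgroup.index_comap_of_surjective _ h.pH_surj] at hP
  have ht := (zpowers (h.π h.t)).card_mul_index
  rw [card_S2, Nat.card_zpowers, h.orderOf_πt] at ht
  rw [show (zpowers (h.π h.t)).index = 8 by omega] at hP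
  rw [P]
  omega

theorem card_H : Nat.card h.H = 72 := by
  have hH := h.pH.ker.card_mul_index
  rw [h.card_pH_ker, Subgroup.index_ker, MonoidHom.range_eq_top.2 h.pH_surj, card_top, card_S2] at hH
  omega

/-- The Sylow subgroup. -/
noncomputable def PS : Sylow 3 h.H :=
  haveI := Fact.mk Nat.prime_three
  Sylow.ofCard h.P (by
    rw [h.card_P, h.card_H, show (72 : ℕ) = 3 ^ 2 * 8 by norm_num,
      Nat.factorization_mul (by norm_num) (by norm_num)]
    simp only [Finsupp.add_apply, Nat.Prime.factorization_pow Nat.prime_three, Finsupp.single_eq_same,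
      Nat.factorization_eq_zero_of_not_dvd (show ¬ 3 ∣ 8 by norm_num), add_zero]
    norm_num)

theorem coe_PS : (h.PS : Subgroup h.H) = h.P := Sylow.coe_ofCard _ _

theorem normalizer_P : normalizer ((h.PS : Subgroup h.H) : Set h.H) ≤ centralizer ((h.PS : Subgroup h.H) : Set h.H) := by
  rw [h.coe_PS]
  intro n hn
  rw [mem_centralizer_iff]
  have htP : (⟨h.t, h.t_mem⟩ : h.H) ∈ h.P := mem_zpowers _
  have hconj : n * (⟨h.t, h.t_mem⟩ : h.H) * n⁻¹ ∈ h.P := (mem_normalizer_iff.1 hn _).1 htP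
  set a := h.π h.t with ha
  set g := h.π (n : X) with hg
  have ha3 : a * (a * a) = 1 := by rw [← pow_three, ha, ← map_pow, h.t_pow, map_one]
  have hcent := centralizer_three a g ha3 h.π_t
  have hga : g * a = a * g := by
    have hm : g * a * g⁻¹ ∈ zpowers a := by
      have : h.π ((n * (⟨h.t, h.t_mem⟩ : h.H) * n⁻¹ : h.H) : X) ∈ zpowers a := hconj
      simpa [← hg, ← ha] using this
    obtain ⟨k, hk, hke⟩ : ∃ k < 3, a ^ k = g * a * g⁻¹ := by
      have hfin : IsOfFinOrder a := isOfFinOrder_of_finite a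
      obtain ⟨k, hk⟩ := (hfin.mem_powers_iff_mem_zpowers).2 hm
      refine ⟨k % 3, Nat.mod_lt _ (by norm_num), ?_⟩
      have e := pow_mod_orderOf a k
      rw [h.orderOf_πt] at e
      exact e.trans hk
    interval_cases k
    · rw [pow_zero, eq_comm, mul_inv_eq_one, mul_eq_left] at hke
      exact absurd hke h.π_t
    · rw [pow_one, eq_mul_inv_iff_mul_eq] at hke
      exact hke.symm
    · rw [sq] at hke
      exact (hcent.1 hke.symm).elim
  obtain ⟨p, hp, hpe⟩ : ∃ p : X, Commute p h.t ∧ p ∈ h.H ∧ h.π p = g := by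
    have hzt : Commute h.z h.t := (h.mem_H.1 h.t_mem).symm
    rcases hcent.2 hga with e | e | e | e | e | e
    · exact ⟨1, Commute.one_left _, one_mem _, by rw [e, map_one]⟩
    · exact ⟨h.t, Commute.refl _, h.t_mem, e.symm⟩
    · exact ⟨h.t * h.t, (Commute.refl _).mul_left (Commute.refl _), mul_mem h.t_mem h.t_mem,
        by rw [e, map_mul]⟩
    · exact ⟨h.z, hzt, h.z_mem_H, by rw [e, h.π_z]⟩
    · exact ⟨h.z * h.t, hzt.mul_left (Commute.refl _), mul_mem h.z_mem_H h.t_mem,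
        by rw [e, map_mul, h.π_z]⟩
    · exact ⟨h.z * (h.t * h.t), hzt.mul_left ((Commute.refl _).mul_left (Commute.refl _)),
        mul_mem h.z_mem_H (mul_mem h.t_mem h.t_mem), by rw [e, map_mul, map_mul, h.π_z]⟩
  have hc : (n : X) * p⁻¹ ∈ h.Z := h.H_inf (mul_mem n.2 (inv_mem hpe.1)) (by
    rw [h.memR, map_mul, map_inv, hpe.2, ← hg, mul_inv_cancel])
  have hnt : Commute (n : X) h.t := by
    have hc' : Commute ((n : X) * p⁻¹) h.t := (h.Zcentral hc h.t).symm
    have := hc'.mul_left hp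
    rwa [inv_mul_cancel_right] at this
  intro m hm
  obtain ⟨c, hc', i, hi⟩ := h.P_eq hm
  refine Subtype.ext ?_
  show (m : X) * n = n * m
  rw [hi]
  have hcn : Commute c (n : X) := (h.Zcentral hc' (n : X)).symm
  exact hcn.mul_left (hnt.symm.zpow_left i)

/-- The transfer. -/
noncomputable def τ : h.H →* (h.PS : Subgroup h.H) :=
  haveI := Fact.mk Nat.prime_three
  MonoidHom.transferSylow h.PS h.normalizer_P

theorem τ_eq {m : h.H} (hm : m ∈ h.P) : ((h.τ m : h.H) : X) = (m : X) ^ 8 := by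
  haveI := Fact.mk Nat.prime_three
  have hi : (h.PS : Subgroup h.H).index = 8 := by
    have := (h.PS : Subgroup h.H).card_mul_index
    rw [h.coe_PS, h.card_P, h.card_H] at this
    rw [h.coe_PS]
    omega
  rw [τ, MonoidHom.transferSylow_eq_pow h.PS h.normalizer_P m (by
    show m ∈ (h.PS : Subgroup h.H); rwa [h.coe_PS])]
  simp [hi]

/-- The complement. -/
noncomputable def K0 : Subgroup h.H := (zpowers (h.τ ⟨h.t, h.t_mem⟩)).comap h.τ

theorem K0_inf {n : h.H} (hn : n ∈ h.K0) (hR : h.π (n : X) = 1) : n = 1 := by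
  have hZ : (n : X) ∈ h.Z := h.H_inf n.2 (h.memR.2 hR)
  have hP : n ∈ h.P := by
    show h.π (n : X) ∈ zpowers _
    rw [hR]; exact one_mem _
  obtain ⟨i, hi⟩ := mem_zpowers_iff.1 hn
  have e := congrArg (fun x : (h.PS : Subgroup h.H) => ((x : h.H) : X)) hi
  simp only [SubgroupClass.coe_zpow] at e
  rw [h.τ_eq hP, h.τ_eq (show (⟨h.t, h.t_mem⟩ : h.H) ∈ h.P from mem_zpowers _)] at e
  have e3 : (n : X) ^ 8 = ((n : X))⁻¹ := by
    refine eq_inv_of_mul_eq_one_left ?_
    rw [← pow_succ, show 8 + 1 = 3 * 3 from rfl, pow_mul, h.Zpow hZ, one_pow]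
  have e2 : h.π ((n : X) ^ 8) = 1 := by rw [map_pow, hR, one_pow]
  rw [← e, map_zpow, map_pow] at e2
  have e4 : h.π h.t ^ 8 = (h.π h.t)⁻¹ := by
    refine eq_inv_of_mul_eq_one_left ?_
    rw [← pow_succ, show 8 + 1 = 3 * 3 from rfl, pow_mul, ← map_pow, h.t_pow, map_one, one_pow]
  rw [e4, inv_zpow, inv_eq_one, ← orderOf_dvd_iff_zpow_eq_one, h.orderOf_πt] at e2
  obtain ⟨j, rfl⟩ := e2
  have e5 : (h.t ^ 8) ^ ((3 : ℤ) * j) = 1 := by
    rw [← zpow_natCast, ← zpow_mul, show ((8 : ℕ) : ℤ) * (3 * j) = 3 * (8 * j) by push_cast; ring,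
      zpow_mul, show h.t ^ (3 : ℤ) = 1 from mod_cast h.t_pow, one_zpow]
  replace e : (h.t ^ 8) ^ ((3 : ℤ) * j) = (n : X) ^ 8 := e
  rw [e5, e3, eq_comm, inv_eq_one] at e
  exact Subtype.ext e

theorem K0_surj (g : S2) : ∃ n ∈ h.K0, h.π (n : h.H) = g := by
  obtain ⟨n, hn⟩ := h.pH_surj g
  have hmem : ((h.τ n : (h.PS : Subgroup h.H)) : h.H) ∈ h.P := by
    exact h.coe_PS.le (h.τ n).2
  obtain ⟨c, hc, i, hi⟩ := h.P_eq hmem
  let c' : h.H := ⟨c, h.Z_le_H hc⟩
  have hcP : c' ∈ h.P := by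
    show h.π c ∈ zpowers _
    rw [h.memR.1 (h.ZR hc)]; exact one_mem _
  have htc : h.τ (c' * c') * h.τ ⟨h.t, h.t_mem⟩ ^ (-i) = h.τ n := by
    refine Subtype.ext (Subtype.ext ?_)
    rw [hi]
    simp only [Subgroup.coe_mul, SubgroupClass.coe_zpow]
    rw [h.τ_eq (mul_mem hcP hcP), h.τ_eq (show (⟨h.t, h.t_mem⟩ : h.H) ∈ h.P from mem_zpowers _)]
    congr 1
    · show (c * c) ^ 8 = c
      rw [← sq, ← pow_mul, show 2 * 8 = 3 * 5 + 1 from rfl, pow_succ, pow_mul, h.Zpow hc, one_pow,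
        one_mul]
    · rw [← zpow_natCast, ← zpow_mul, show ((8 : ℕ) : ℤ) * -i = 3 * (-(3 * i)) + i by push_cast; ring,
        zpow_add, zpow_mul, show h.t ^ (3 : ℤ) = 1 from mod_cast h.t_pow, one_zpow, one_mul]
  refine ⟨(c' * c')⁻¹ * n, ?_, ?_⟩
  · show h.τ _ ∈ zpowers _
    rw [map_mul, map_inv, ← htc, inv_mul_cancel_left]
    exact zpow_mem (mem_zpowers _) _
  · show h.π ((c * c)⁻¹ * n.1) = g
    rw [map_mul, map_inv, map_mul, h.memR.1 (h.ZR hc)]
    simp only [one_mul, inv_one]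
    exact hn

theorem conj_inv {n : X} (hn : n ∈ h.H) (v : Fin 2 → K) : ∃ w, n * h.iso v 0 * n⁻¹ = h.iso w 0 := by
  obtain ⟨w, s, e⟩ := h.iso_surj (h.conjR (h.iso_mem v 0) n)
  have hnz := h.mem_H.1 hn
  have hnz' : n⁻¹ * h.z = h.z * n⁻¹ := by
    rw [inv_mul_eq_iff_eq_mul, ← mul_assoc, hnz, mul_inv_cancel_right]
  have hinv : h.Inv' (h.iso w s) := by
    refine ⟨h.iso_mem w s, ?_⟩
    rw [← e]
    calc h.z * (n * h.iso v 0 * n⁻¹) * h.z = (h.z * n) * h.iso v 0 * (n⁻¹ * h.z) := by group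
      _ = n * (h.z * h.iso v 0 * h.z) * n⁻¹ := by rw [← hnz, hnz']; group
      _ = _ := by rw [(h.inv_iff.2 rfl).2]; group
  rw [h.inv_iff] at hinv
  exact ⟨w, hinv ▸ e⟩

theorem exists_matrix (n : h.H) : ∃ M : S2, ∀ (v : Fin 2 → K) (s : K),
    (n : X) * h.iso v s * (n : X)⁻¹ = h.iso (app M v) s := by
  choose L hL using fun v => h.conj_inv n.2 v
  have hfull : ∀ v s, (n : X) * h.iso v s * (n : X)⁻¹ = h.iso (L v) s := by
    intro v s
    have e : h.iso v s = h.iso v 0 * h.iso 0 s := by rw [h.iso_mul]; simp [om]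
    calc (n : X) * h.iso v s * (n : X)⁻¹
        = (n : X) * h.iso v 0 * (h.iso 0 s * (n : X)⁻¹) := by rw [e]; group
      _ = ((n : X) * h.iso v 0 * (n : X)⁻¹) * h.iso 0 s := by
          rw [← h.Zcentral (h.iso_mem_Z.2 rfl) (n : X)⁻¹]; group
      _ = _ := by rw [hL, h.iso_mul]; simp [om]
  have key : ∀ v w, L (v + w) = L v + L w ∧ om (L v) (L w) = om v w := by
    intro v w
    have e := hfull (v + w) (0 + 0 + om v w)
    rw [← h.iso_mul, show (n : X) * (h.iso v 0 * h.iso w 0) * (n : X)⁻¹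
      = ((n : X) * h.iso v 0 * (n : X)⁻¹) * ((n : X) * h.iso w 0 * (n : X)⁻¹) by group, hL, hL,
      h.iso_mul] at e
    obtain ⟨e1, e2⟩ := h.iso_inj e
    exact ⟨e1.symm, by simpa using e2⟩
  let Lh : (Fin 2 → K) →+ (Fin 2 → K) := AddMonoidHom.mk' L fun v w => (key v w).1
  refine ⟨⟨!![L ![1, 0] 0, L ![0, 1] 0; L ![1, 0] 1, L ![0, 1] 1], ?_⟩, fun v s => ?_⟩
  · have := (key ![1, 0] ![0, 1]).2
    simp only [om] at this
    simp at this
    rw [Matrix.det_fin_two]
    simp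
    linear_combination this
  · rw [hfull]
    congr 1
    have hv : L v = v 0 • L ![1, 0] + v 1 • L ![0, 1] := by
      conv_lhs => rw [basis_decomp v]
      show Lh _ = v 0 • Lh _ + v 1 • Lh _
      rw [map_add, ZMod.map_smul, ZMod.map_smul]
    rw [hv]
    ext i; fin_cases i <;> simp [app, mul_comm]

/-- The action on the plane. -/
noncomputable def σ : h.H →* S2 where
  toFun n := (h.exists_matrix n).choose
  map_one' := by
    have hs := (h.exists_matrix 1).choose_spec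
    generalize (h.exists_matrix 1).choose = M at hs ⊢
    refine app_ext fun v => ?_
    have := hs v 0
    simp only [OneMemClass.coe_one, one_mul, inv_one, mul_one] at this
    rw [app_one]
    exact (h.iso_inj this).1.symm
  map_mul' m n := by
    have hs := (h.exists_matrix (m * n)).choose_spec
    generalize (h.exists_matrix (m * n)).choose = M at hs ⊢
    refine app_ext fun v => ?_
    have e := hs v 0
    rw [Subgroup.coe_mul, mul_inv_rev, show (m : X) * (n : X) * h.iso v 0 * ((n : X)⁻¹ * (m : X)⁻¹)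
      = (m : X) * ((n : X) * h.iso v 0 * (n : X)⁻¹) * (m : X)⁻¹ by group,
      (h.exists_matrix n).choose_spec, (h.exists_matrix m).choose_spec] at e
    rw [app_mul]
    exact (h.iso_inj e).1.symm

theorem σ_spec (n : h.H) (v : Fin 2 → K) (s : K) :
    (n : X) * h.iso v s * (n : X)⁻¹ = h.iso (app (h.σ n) v) s :=
  (h.exists_matrix n).choose_spec v s

/-- The action restricted to the complement. -/
noncomputable def σ0 : h.K0 →* S2 := h.σ.comp h.K0.subtype

theorem σ0_injective : Function.Injective h.σ0 := by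
  refine (injective_iff_map_eq_one _).2 fun n hn => ?_
  by_contra hne
  have hg : h.π ((n : h.H) : X) ≠ 1 := fun e => hne (Subtype.ext (h.K0_inf n.2 e))
  have hker : ∀ m : h.H, h.σ m = 1 → h.π (m : X) ≠ -1 := by
    intro m hm e
    have hr : (h.z * (m : X)) ∈ h.R := by
      rw [h.memR, map_mul, h.π_z, e]; decide +kernel
    have hz : h.z * (m : X) ∈ h.Z := h.H_inf (mul_mem h.z_mem_H m.2) hr
    have hfix := h.σ_spec m ![1, 0] 0
    rw [hm, app_one] at hfix
    have hm' : (m : X) = h.z * (h.z * (m : X)) := by rw [← mul_assoc, h.z_sq, one_mul]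
    have hzx : h.z * h.iso ![1, 0] 0 * h.z = h.iso ![1, 0] 0 := by
      set c := h.z * (m : X) with hcd
      rw [hm', mul_inv_rev, h.z_inv] at hfix
      calc h.z * h.iso ![1, 0] 0 * h.z = h.z * c * h.iso ![1, 0] 0 * (c⁻¹ * h.z) := by
            rw [mul_assoc h.z c, ← h.Zcentral hz]; group
        _ = _ := hfix
    rw [h.zconj_iso] at hzx
    exact absurd (congrFun (h.iso_inj hzx).1 0) (by decide)
  rcases commutator_hits_negOne _ hg with e | ⟨a, e⟩
  · exact hker _ hn e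
  · obtain ⟨m, -, rfl⟩ := h.K0_surj a
    refine hker (((n : h.H) * m * (n : h.H)⁻¹ * m⁻¹) * ((n : h.H) * m * (n : h.H)⁻¹ * m⁻¹)) ?_ ?_
    · have hn' : h.σ (n : h.H) = 1 := hn
      simp [hn']
    · simpa using e

theorem σ0_bijective : Function.Bijective h.σ0 := by
  let f : h.K0 → S2 := fun n => h.π ((n : h.H) : X)
  have hf : Function.Surjective f := fun g => by
    obtain ⟨n, hn, e⟩ := h.K0_surj g
    exact ⟨⟨n, hn⟩, e⟩
  exact h.σ0_injective.bijective_of_nat_card_le (Nat.card_le_card_of_surjective f hf)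

/-- The complement as the special linear group. -/
noncomputable def eK : h.K0 ≃* S2 := MulEquiv.ofBijective h.σ0 h.σ0_bijective

/-- The map from the model. -/
noncomputable def Θ : W →* X where
  toFun w := h.iso w.v w.s * ((h.eK.symm w.g : h.H) : X)
  map_one' := by simp [one_def, h.iso_zero]
  map_mul' a b := by
    simp only [mul_def, map_mul, Subgroup.coe_mul]
    set m : h.H := (h.eK.symm a.g : h.H) with hm
    have hσ : h.σ m = a.g := h.eK.apply_symm_apply a.g
    have e := h.σ_spec m b.v b.s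
    rw [hσ] at e
    rw [← h.iso_mul, ← e]
    group

theorem Θ_bijective : Function.Bijective h.Θ := by
  have hinj : Function.Injective h.Θ := by
    refine (injective_iff_map_eq_one _).2 fun w hw => ?_
    have hw' : h.iso w.v w.s * ((h.eK.symm w.g : h.H) : X) = 1 := hw
    have hk : h.π ((h.eK.symm w.g : h.H) : X) = 1 := by
      have := congrArg h.π hw'
      rwa [map_mul, h.memR.1 (h.iso_mem _ _), one_mul, map_one] at this
    have h1 : h.eK.symm w.g = 1 := Subtype.ext (h.K0_inf (h.eK.symm w.g).2 hk)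
    rw [h1] at hw'
    simp only [OneMemClass.coe_one, mul_one] at hw'
    obtain ⟨e1, e2⟩ := h.iso_eq_one hw'
    have e3 : w.g = 1 := by rw [← h.eK.apply_symm_apply w.g, h1, map_one]
    exact W.ext e1 e2 e3
  refine hinj.bijective_of_nat_card_le ?_
  have := h.π.ker.card_mul_index
  rw [h.ker, h.cardR, ← h.ker, Subgroup.index_ker, MonoidHom.range_eq_top.2 h.surj, card_top,
    card_S2] at this
  rw [card_W]
  omega

include h in
theorem model_equiv : Nonempty (X ≃* W) :=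
  ⟨(MulEquiv.ofBijective h.Θ h.Θ_bijective).symm⟩

end Hyp

end CfsgLib.Recog.HeisSL
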