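import Cfsg.Agent.Lib.Recog.HeisSL.Basic

/-!
Owner: helper11. Groups with a normal extraspecial subgroup of order 27 and quotient SL(2,3):
the central involution of a complement and the resulting coordinates on the normal subgroup.
-/

set_option autoImplicit false
set_option linter.all false
set_option maxHeartbeats 800000

namespace CfsgLib.Recog.HeisSL

open Subgroup

variable {X : Type*} [Group X] [Finite X]

/-- The hypotheses. -/
structure Hyp (X : Type*) [Group X] where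
  R : Subgroup X
  π : X →* S2
  surj : Function.Surjective π
  ker : π.ker = R
  cardR : Nat.card R = 27
  expR : ∀ r ∈ R, r ^ 3 = 1
  Z : Subgroup X
  normalZ : Z.Normal
  cardZ : Nat.card Z = 3
  ZR : Z ≤ R
  centre : ∀ c ∈ R, (∀ r ∈ R, r * c = c * r) → c ∈ Z
  Zcomm : ∀ c ∈ Z, ∀ r ∈ R, r * c = c * r
  comm : ∀ r ∈ R, ∀ s ∈ R, r * s * r⁻¹ * s⁻¹ ∈ Z
  noTwo : ∀ N : Subgroup X, N.Normal → IsPGroup 2 N → N = ⊥
  elem : ∃ E : Subgroup X, IsMulCommutative E ∧ (∀ a ∈ E, a ^ 3 = 1) ∧ Nat.card E = 27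

/-- Squares fix a normal subgroup of order three elementwise. -/
theorem sq_fix {G : Type*} [Group G] (A : Subgroup G) [A.Normal] (hA : Nat.card A = 3) (g : G)
    {a : G} (ha : a ∈ A) : g * g * a = a * (g * g) := by
  haveI := Fact.mk Nat.prime_three
  haveI : Finite A := Nat.finite_of_card_ne_zero (by omega)
  rcases eq_or_ne a 1 with rfl | h1
  · simp
  have ho : orderOf a = 3 := by
    refine orderOf_eq_prime ?_ h1
    have := pow_card_eq_one' (G := A) (x := ⟨a, ha⟩)
    rw [hA] at this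
    exact congrArg Subtype.val this
  have hz : zpowers a = A :=
    Subgroup.eq_of_le_of_card_ge ((zpowers_le).2 ha) (by rw [hA, Nat.card_zpowers, ho])
  have hb : g * a * g⁻¹ ∈ zpowers a := by rw [hz]; exact Normal.conj_mem inferInstance a ha g
  have hfin : IsOfFinOrder a := orderOf_pos_iff.1 (by omega)
  obtain ⟨k, hk, hke⟩ : ∃ k < 3, a ^ k = g * a * g⁻¹ := by
    obtain ⟨k, hk⟩ := (hfin.mem_powers_iff_mem_zpowers).2 hb
    exact ⟨k % 3, Nat.mod_lt _ (by norm_num), by rw [← ho, pow_mod_orderOf]; exact hk⟩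
  rw [← mul_inv_eq_iff_eq_mul, mul_inv_rev,
    show g * g * a * (g⁻¹ * g⁻¹) = g * (g * a * g⁻¹) * g⁻¹ by group, ← hke, ← conj_pow, ← hke,
    ← pow_mul]
  interval_cases k
  · exact absurd (by rw [pow_zero] at hke; simpa [eq_comm, mul_inv_eq_one] using hke) h1
  · simp
  · rw [show 2 * 2 = 3 + 1 from rfl, pow_succ, ← ho, pow_orderOf_eq_one, one_mul]

theorem sq_prod : ∀ g : S2, ∃ a b : S2, a * a * (b * b) = g := by decide +kernel

theorem negOne_central : ∀ g : S2, g * (-1) = (-1) * g := by decide +kernel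

theorem negOne_ne : (-1 : S2) ≠ 1 := by decide +kernel

theorem exists_fourth : ∃ w : S2, w ^ 2 = -1 := by decide +kernel

/-- Values of exponents modulo three. -/
def pw {G : Type*} [Monoid G] (x : G) (a : K) : G := x ^ a.val

theorem pw_add {G : Type*} [Monoid G] {x : G} (hx : x ^ 3 = 1) (a b : K) :
    pw x (a + b) = pw x a * pw x b := by
  rw [pw, pw, pw, ← pow_add, ZMod.val_add, pow_eq_pow_mod (a.val + b.val) hx]

theorem pw_zero {G : Type*} [Monoid G] (x : G) : pw x 0 = 1 := by simp [pw]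

theorem pw_one {G : Type*} [Monoid G] (x : G) : pw x 1 = x := by
  rw [pw, ZMod.val_one, pow_one]

theorem pw_neg {G : Type*} [Group G] {x : G} (hx : x ^ 3 = 1) (a : K) :
    pw x (-a) = (pw x a)⁻¹ := by
  refine eq_inv_of_mul_eq_one_left ?_
  rw [← pw_add hx, neg_add_cancel, pw_zero]

theorem pw_natCast {G : Type*} [Monoid G] {x : G} (hx : x ^ 3 = 1) (n : ℕ) :
    pw x (n : K) = x ^ n := by
  rw [pw, ZMod.val_natCast, ← pow_eq_pow_mod n hx]

theorem pw_eq_one {G : Type*} [Group G] {x : G} (hx : x ^ 3 = 1) (h1 : x ≠ 1) {a : K}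
    (h : pw x a = 1) : a = 0 := by
  rcases (by decide : ∀ a : K, a = 0 ∨ a = 1 ∨ a = -1) a with rfl | rfl | rfl
  · rfl
  · exact absurd (by rwa [pw_one] at h) h1
  · rw [pw_neg hx, pw_one, inv_eq_one] at h
    exact absurd h h1

theorem pw_mem {G : Type*} [Group G] {S : Subgroup G} {x : G} (hx : x ∈ S) (a : K) : pw x a ∈ S :=
  pow_mem hx _

namespace Hyp

variable (h : Hyp X)

theorem memR {x : X} : x ∈ h.R ↔ h.π x = 1 := by rw [← h.ker, MonoidHom.mem_ker]

theorem conjR {r : X} (hr : r ∈ h.R) (g : X) : g * r * g⁻¹ ∈ h.R := by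
  rw [memR] at hr ⊢
  simp [hr]

theorem Zcentral {c : X} (hc : c ∈ h.Z) (g : X) : g * c = c * g := by
  haveI := h.normalZ
  obtain ⟨a, b, hab⟩ := sq_prod (h.π g)
  obtain ⟨a', rfl⟩ := h.surj a
  obtain ⟨b', rfl⟩ := h.surj b
  have hr : (a' * a' * (b' * b'))⁻¹ * g ∈ h.R := by
    rw [memR, map_mul, map_inv]; simp only [map_mul]; rw [hab, inv_mul_cancel]
  have hc1 : Commute (a' * a') c := sq_fix h.Z h.cardZ a' hc
  have hc2 : Commute (b' * b') c := sq_fix h.Z h.cardZ b' hc
  have hc3 : Commute ((a' * a' * (b' * b'))⁻¹ * g) c := h.Zcomm c hc _ hr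
  have := (hc1.mul_left hc2).mul_left hc3
  rwa [mul_inv_cancel_left] at this

theorem Zpow {c : X} (hc : c ∈ h.Z) : c ^ 3 = 1 := h.expR c (h.ZR hc)

theorem eq_one_of_sq {r : X} (hr : r ∈ h.R) (h2 : r * r = 1) : r = 1 := by
  have := h.expR r hr
  rw [pow_succ, sq, h2, one_mul] at this
  exact this

theorem exists_involution :
    ∃ z q : X, z * z = 1 ∧ h.π z = -1 ∧ q * q = z := by
  obtain ⟨w, hw⟩ := exists_fourth
  obtain ⟨q, rfl⟩ := h.surj w
  have h4 : h.π (q ^ 4) = 1 := by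
    rw [map_pow, show 4 = 2 * 2 from rfl, pow_mul, hw]; decide +kernel
  have h12 := h.expR _ (h.memR.2 h4)
  refine ⟨q ^ 6, q ^ 3, ?_, ?_, ?_⟩
  · rw [← pow_add]; rw [← pow_mul] at h12; exact h12
  · rw [map_pow, show 6 = 2 * 3 from rfl, pow_mul, hw]; decide +kernel
  · rw [← pow_add]

/-- The involution. -/
noncomputable def z : X := h.exists_involution.choose

theorem z_sq : h.z * h.z = 1 := h.exists_involution.choose_spec.choose_spec.1

theorem π_z : h.π h.z = -1 := h.exists_involution.choose_spec.choose_spec.2.1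

theorem z_square : ∃ q : X, q * q = h.z :=
  ⟨_, h.exists_involution.choose_spec.choose_spec.2.2⟩

theorem z_inv : h.z⁻¹ = h.z := inv_eq_of_mul_eq_one_right h.z_sq

theorem z_conj_mem (g : X) : ∃ s ∈ h.R, g * h.z * g⁻¹ = h.z * s := by
  refine ⟨h.z * (g * h.z * g⁻¹), ?_, by rw [← mul_assoc, h.z_sq, one_mul]⟩
  rw [memR, map_mul, map_mul, map_mul, h.π_z, map_inv, negOne_central, mul_inv_cancel_right,
    ← sq]
  decide +kernel

/-- The elements moved by the involution by a central element. -/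
def U : Subgroup X where
  carrier := {r | r ∈ h.R ∧ h.z * r * h.z * r⁻¹ ∈ h.Z}
  one_mem' := ⟨one_mem _, by simp [h.z_sq, one_mem]⟩
  mul_mem' := by
    rintro a b ⟨haR, haz⟩ ⟨hbR, hbz⟩
    refine ⟨mul_mem haR hbR, ?_⟩
    have e : h.z * (a * b) * h.z * (a * b)⁻¹
        = (h.z * a * h.z) * (h.z * b * h.z * b⁻¹) * a⁻¹ := by
      have := h.z_sq
      calc h.z * (a * b) * h.z * (a * b)⁻¹ = h.z * a * 1 * b * h.z * (b⁻¹ * a⁻¹) := by group
        _ = h.z * a * (h.z * h.z) * b * h.z * (b⁻¹ * a⁻¹) := by rw [h.z_sq]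
        _ = _ := by group
    rw [e, h.Zcentral hbz, mul_assoc]
    exact mul_mem hbz haz
  inv_mem' := by
    rintro a ⟨haR, haz⟩
    refine ⟨inv_mem haR, ?_⟩
    have e : h.z * a⁻¹ * h.z * a = a⁻¹ * (h.z * a * h.z * a⁻¹)⁻¹ * a := by
      simp only [mul_inv_rev, inv_inv, h.z_inv]; group
    rw [inv_inv, e, h.Zcentral (inv_mem haz), inv_mul_cancel_right]
    exact inv_mem haz

theorem U_le : h.U ≤ h.R := fun _ hx => hx.1

theorem U_commute {r : X} (hr : r ∈ h.U) : h.z * r = r * h.z := by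
  obtain ⟨hrR, hc⟩ := hr
  set c := h.z * r * h.z * r⁻¹ with hcd
  have e : h.z * r * h.z = c * r := by rw [hcd]; group
  have h2 : r = c * c * r := by
    calc r = (h.z * h.z) * r * (h.z * h.z) := by rw [h.z_sq]; simp
      _ = h.z * (h.z * r * h.z) * h.z := by group
      _ = h.z * c * (r * h.z) := by rw [e]; group
      _ = c * (h.z * r * h.z) := by rw [h.Zcentral hc h.z]; simp only [mul_assoc]
      _ = _ := by rw [e, ← mul_assoc]
  have hc1 : c = 1 := h.eq_one_of_sq (h.ZR hc) (by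
    exact mul_eq_right.1 h2.symm)
  rw [hc1, one_mul] at e
  calc h.z * r = h.z * r * (h.z * h.z) := by rw [h.z_sq, mul_one]
    _ = h.z * r * h.z * h.z := by group
    _ = r * h.z := by rw [e]

theorem Z_le_U : h.Z ≤ h.U := fun c hc => by
  refine ⟨h.ZR hc, ?_⟩
  rw [h.Zcentral hc h.z, mul_assoc c, h.z_sq, mul_one, mul_inv_cancel]
  exact one_mem _

theorem U_normal : h.U.Normal := by
  refine ⟨fun r hr g => ⟨h.conjR hr.1 g, ?_⟩⟩
  obtain ⟨s, hs, hgs⟩ := h.z_conj_mem g
  set u := g * r * g⁻¹ with hu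
  have hcz := h.U_commute hr
  have h1 : (h.z * s) * u = u * (h.z * s) := by
    rw [← hgs, hu, show g * h.z * g⁻¹ * (g * r * g⁻¹) = g * (h.z * r) * g⁻¹ by group, hcz]
    group
  have hk := h.comm s hs u (h.conjR hr.1 g)
  set k := s * u * s⁻¹ * u⁻¹ with hkd
  have h2 : h.z * u * h.z * u⁻¹ = k⁻¹ := by
    have hsu : s * u * s⁻¹ = k * u := by rw [hkd]; group
    have h3 : h.z * (k * u) * h.z = u := by
      rw [← hsu]
      calc h.z * (s * u * s⁻¹) * h.z = (h.z * s) * u * (s⁻¹ * h.z⁻¹) := by rw [h.z_inv]; group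
        _ = u * (h.z * s) * (s⁻¹ * h.z⁻¹) := by rw [h1]
        _ = u := by group
    rw [← mul_assoc h.z, h.Zcentral hk h.z, mul_assoc k, mul_assoc k] at h3
    rw [eq_inv_mul_of_mul_eq h3, mul_inv_cancel_right]
  rw [h2]
  exact inv_mem hk

theorem U_eq : h.U = h.Z := by
  by_contra hne
  have hlt : h.Z < h.U := lt_of_le_of_ne h.Z_le_U (Ne.symm hne)
  -- the involution then centralises the normal subgroup
  have hall : ∀ r ∈ h.R, h.z * r = r * h.z := by
    intro r hr
    refine h.U_commute ?_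
    by_contra hrU
    have hlt2 : h.U < h.R := lt_of_le_of_ne h.U_le fun e => hrU (e ▸ hr)
    have h9 : Nat.card h.U = 9 := by
      have hd : Nat.card h.U ∣ 3 ^ 3 := by
        simpa [h.cardR] using Subgroup.card_dvd_of_le h.U_le
      obtain ⟨k, hk, hk'⟩ := (Nat.dvd_prime_pow Nat.prime_three).1 hd
      have l1 : 3 < Nat.card h.U := h.cardZ ▸
        lt_of_not_ge fun hge => hne (Subgroup.eq_of_le_of_card_ge h.Z_le_U hge).symm
      have l2 : Nat.card h.U < 27 := h.cardR ▸
        lt_of_not_ge fun hge => hlt2.ne (Subgroup.eq_of_le_of_card_ge h.U_le hge)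
      interval_cases k <;> simp_all
    haveI := h.U_normal
    haveI : (h.R.map (QuotientGroup.mk' h.U)).Normal :=
      Normal.map (h.ker ▸ MonoidHom.normal_ker _) _ (QuotientGroup.mk'_surjective _)
    have h3 : Nat.card (h.R.map (QuotientGroup.mk' h.U)) = 3 := by
      have e1 := Subgroup.card_eq_card_quotient_mul_card_subgroup (h.U.subgroupOf h.R)
      rw [h.cardR, Nat.card_congr (Subgroup.subgroupOfEquivOfLe h.U_le).toEquiv, h9] at e1
      have e2 : Nat.card (h.R.map (QuotientGroup.mk' h.U)) = h.U.relIndex h.R := by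
        conv_rhs => rw [← QuotientGroup.ker_mk' h.U]
        rw [Subgroup.relIndex_ker]
      rw [e2, Subgroup.relIndex, Subgroup.index]
      omega
    obtain ⟨q, hq⟩ := h.z_square
    have hfix := sq_fix _ h3 (QuotientGroup.mk' h.U q) (mem_map_of_mem _ hr)
    rw [← map_mul, hq, ← map_mul, ← map_mul] at hfix
    have hd : (h.z * r)⁻¹ * (r * h.z) ∈ h.U := QuotientGroup.eq.1 hfix
    set c := (h.z * r)⁻¹ * (r * h.z) with hcd
    have hzc := h.U_commute hd
    have e : r * h.z = h.z * r * c := by rw [hcd]; group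
    have h2 : r = r * (c * c) := by
      calc r = r * h.z * h.z := by rw [mul_assoc, h.z_sq, mul_one]
        _ = h.z * r * (c * h.z) := by rw [e]; group
        _ = h.z * (r * h.z) * c := by rw [← hzc]; group
        _ = (h.z * h.z) * r * (c * c) := by rw [e]; group
        _ = _ := by rw [h.z_sq, one_mul]
    have hc1 := h.eq_one_of_sq (h.U_le hd) (mul_eq_left.1 h2.symm)
    rw [hc1, mul_one] at e
    refine hrU ⟨hr, ?_⟩
    rw [← e, mul_assoc r, h.z_sq, mul_one, mul_inv_cancel]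
    exact one_mem _
  have hcen : ∀ g : X, g * h.z = h.z * g := by
    intro g
    obtain ⟨s, hs, hgs⟩ := h.z_conj_mem g
    have h2 : (h.z * s) * (h.z * s) = 1 := by
      rw [← hgs, show g * h.z * g⁻¹ * (g * h.z * g⁻¹) = g * (h.z * h.z) * g⁻¹ by group, h.z_sq]
      group
    have hs1 : s = 1 := h.eq_one_of_sq hs (by
      calc s * s = (h.z * h.z) * (s * s) := by rw [h.z_sq, one_mul]
        _ = h.z * (h.z * s) * s := by group
        _ = h.z * (s * h.z) * s := by rw [hall s hs]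
        _ = h.z * s * (h.z * s) := by group
        _ = 1 := h2)
    rw [hs1, mul_one, mul_inv_eq_iff_eq_mul] at hgs
    exact hgs
  have hN : (zpowers h.z).Normal := by
    refine ⟨fun n hn g => ?_⟩
    obtain ⟨k, rfl⟩ := mem_zpowers_iff.1 hn
    rw [show g * h.z ^ k = h.z ^ k * g from (Commute.zpow_right (hcen g) k).eq, mul_inv_cancel_right]
    exact zpow_mem (mem_zpowers _) k
  have hP : IsPGroup 2 (zpowers h.z) :=
    IsPGroup.of_card (n := 1) (by
      rw [Nat.card_zpowers, pow_one, orderOf_eq_prime (by rw [sq]; exact h.z_sq) fun e => negOne_ne (by rw [← h.π_z, e, map_one])])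
  have := h.noTwo _ hN hP
  rw [zpowers_eq_bot] at this
  exact negOne_ne (by rw [← h.π_z, this, map_one])

theorem mem_Z_of_commute {r : X} (hr : r ∈ h.R) (hc : h.z * r = r * h.z) : r ∈ h.Z := by
  rw [← h.U_eq]
  refine ⟨hr, ?_⟩
  rw [hc, mul_assoc r, h.z_sq, mul_one, mul_inv_cancel]
  exact one_mem _

/-- Inverted by the involution. -/
def Inv' (t : X) : Prop := t ∈ h.R ∧ h.z * t * h.z = t⁻¹

theorem exists_inv {r : X} (hr : r ∈ h.R) : ∃ t c : X, h.Inv' t ∧ c ∈ h.Z ∧ t = r * c := by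
  set r' := h.z * r * h.z with hr'
  have hr'R : r' ∈ h.R := by
    have := h.conjR hr h.z
    rwa [h.z_inv] at this
  have hd : r' * r ∈ h.Z := by
    rw [← h.U_eq]
    refine ⟨mul_mem hr'R hr, ?_⟩
    have e : h.z * (r' * r) * h.z = r * r' := by
      rw [hr', show h.z * (h.z * r * h.z * r) * h.z = (h.z * h.z) * r * (h.z * r * h.z) by group,
        h.z_sq, one_mul]
    rw [e, show r * r' * (r' * r)⁻¹ = r * r' * r⁻¹ * r'⁻¹ by group]
    exact h.comm r hr r' hr'R
  refine ⟨r * (r' * r), r' * r, ⟨mul_mem hr (h.ZR hd), ?_⟩, hd, rfl⟩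
  have h3 := h.Zpow hd
  set c := r' * r with hc
  have e1 : r' = c * r⁻¹ := by rw [hc]; group
  calc h.z * (r * c) * h.z = h.z * r * (c * h.z) := by group
    _ = h.z * r * h.z * c := by rw [← h.Zcentral hd]; group
    _ = c * r⁻¹ * c := by rw [← hr', e1]
    _ = c * c * r⁻¹ := by rw [mul_assoc, h.Zcentral hd]; group
    _ = c⁻¹ * r⁻¹ := by
        rw [eq_inv_of_mul_eq_one_left (show c * c * c = 1 by rw [← h3, pow_three, mul_assoc])]
    _ = _ := (mul_inv_rev r c).symm

theorem exists_pair : ∃ x y : X, h.Inv' x ∧ h.Inv' y ∧ y * x ≠ x * y := by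
  obtain ⟨r, hr, s, hs, hne⟩ : ∃ r ∈ h.R, ∃ s ∈ h.R, s * r ≠ r * s := by
    by_contra hcon
    push Not at hcon
    have : h.R ≤ h.Z := fun r hr => h.centre r hr fun s hs => hcon r hr s hs
    have := Subgroup.card_le_of_le this
    rw [h.cardR, h.cardZ] at this
    omega
  obtain ⟨x, c, hx, hc, rfl⟩ := h.exists_inv hr
  obtain ⟨y, d, hy, hd, rfl⟩ := h.exists_inv hs
  refine ⟨_, _, hx, hy, fun e => hne ?_⟩
  have e1 : s * d * (r * c) = s * r * (c * d) := by
    rw [mul_assoc s d, ← mul_assoc d, ← h.Zcentral hd r]; simp only [mul_assoc, h.Zcentral hd c]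
  have e2 : r * c * (s * d) = r * s * (c * d) := by
    rw [mul_assoc r c, ← mul_assoc c, ← h.Zcentral hc s]; simp only [mul_assoc]
  rw [e1, e2] at e
  exact mul_right_cancel e

/-- The first basis element. -/
noncomputable def x : X := h.exists_pair.choose
/-- The second basis element. -/
noncomputable def y : X := h.exists_pair.choose_spec.choose

theorem x_inv : h.Inv' h.x := h.exists_pair.choose_spec.choose_spec.1
theorem y_inv : h.Inv' h.y := h.exists_pair.choose_spec.choose_spec.2.1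
theorem xy_ne : h.y * h.x ≠ h.x * h.y := h.exists_pair.choose_spec.choose_spec.2.2

/-- The commutator of the basis. -/
noncomputable def k : X := h.y * h.x * h.y⁻¹ * h.x⁻¹

theorem k_mem : h.k ∈ h.Z := h.comm _ h.y_inv.1 _ h.x_inv.1

theorem k_ne : h.k ≠ 1 := fun e => h.xy_ne (by
  rw [k, mul_inv_eq_one, mul_inv_eq_iff_eq_mul] at e
  exact e)

theorem yx : h.y * h.x = h.k * (h.x * h.y) := by rw [k]; group

theorem y_pow_x (n : ℕ) : h.y ^ n * h.x = h.k ^ n * (h.x * h.y ^ n) := by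
  induction n with
  | zero => simp
  | succ n ih =>
    rw [pow_succ, mul_assoc, h.yx, ← mul_assoc, h.Zcentral h.k_mem (h.y ^ n), mul_assoc, ← mul_assoc (h.y ^ n),
      ih, pow_succ' h.k]
    simp only [mul_assoc]

theorem y_pow_x_pow (n m : ℕ) : h.y ^ n * h.x ^ m = h.k ^ (n * m) * (h.x ^ m * h.y ^ n) := by
  induction m with
  | zero => simp
  | succ m ih =>
    rw [pow_succ, ← mul_assoc, ih, mul_assoc, mul_assoc, h.y_pow_x, ← mul_assoc (h.x ^ m),
      h.Zcentral (pow_mem h.k_mem n) (h.x ^ m), Nat.mul_succ, pow_add]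
    simp only [mul_assoc]

theorem pw_swap (a b : K) : pw h.y b * pw h.x a = pw h.k (b * a) * (pw h.x a * pw h.y b) := by
  simp only [pw]
  rw [h.y_pow_x_pow, ZMod.val_mul, ← pow_eq_pow_mod _ (h.Zpow h.k_mem)]

/-- The coordinates on the normal subgroup. -/
noncomputable def iso (v : Fin 2 → K) (s : K) : X :=
  pw h.x (v 0) * pw h.y (v 1) * pw h.k (s - v 0 * v 1)

theorem iso_mem (v : Fin 2 → K) (s : K) : h.iso v s ∈ h.R :=
  mul_mem (mul_mem (pw_mem h.x_inv.1 _) (pw_mem h.y_inv.1 _)) (pw_mem (h.ZR h.k_mem) _)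

theorem iso_mul (v w : Fin 2 → K) (s t : K) :
    h.iso v s * h.iso w t = h.iso (v + w) (s + t + om v w) := by
  have hk : ∀ (a : K) (g : X), g * pw h.k a = pw h.k a * g := fun a g =>
    h.Zcentral (pw_mem h.k_mem a) g
  have hk3 := h.Zpow h.k_mem
  have hx3 := h.expR _ h.x_inv.1
  have hy3 := h.expR _ h.y_inv.1
  simp only [iso, Pi.add_apply]
  set A := v 0; set B := v 1; set C := w 0; set D := w 1
  have h30 : (3 : K) = 0 := by decide
  rw [pw_add hx3, pw_add hy3,
    show s + t + om v w - (A + C) * (B + D) = (s - A * B) + (t - C * D) + B * C by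
      simp only [om, A, B, C, D]
      linear_combination (-(v 1) * (w 0)) * h30,
    pw_add hk3, pw_add hk3]
  have e : pw h.x A * pw h.y B * pw h.k (s - A * B) * (pw h.x C * pw h.y D * pw h.k (t - C * D))
      = pw h.x A * (pw h.y B * pw h.x C) * pw h.y D * (pw h.k (s - A * B) * pw h.k (t - C * D)) := by
    rw [mul_assoc _ (pw h.k (s - A * B)), ← mul_assoc (pw h.k (s - A * B)) (pw h.x C * pw h.y D),
      ← hk (s - A * B) (pw h.x C * pw h.y D)]
    simp only [mul_assoc]
  rw [e, h.pw_swap, ← mul_assoc (pw h.x A), hk]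
  simp only [mul_assoc]
  rw [← hk (B * C) _]
  simp only [mul_assoc]

theorem iso_zero : h.iso 0 0 = 1 := by simp [iso, pw_zero]

/-- The coordinates as a map from pairs. -/
noncomputable def isoFun : (Fin 2 → K) × K → X := fun p => h.iso p.1 p.2

theorem iso_inv (v : Fin 2 → K) (s : K) : (h.iso v s)⁻¹ = h.iso (-v) (-s) := by
  refine inv_eq_of_mul_eq_one_right ?_
  rw [h.iso_mul, ← h.iso_zero, add_neg_cancel, add_neg_cancel, zero_add]
  congr 1
  simp [om]; ring

theorem iso_eq_one {v : Fin 2 → K} {s : K} (he : h.iso v s = 1) : v = 0 ∧ s = 0 := by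
  have hcomm : ∀ w : Fin 2 → K, om v w = om w v := by
    intro w
    have h1 := h.iso_mul v w s 0
    have h2 := h.iso_mul w v 0 s
    rw [he, one_mul] at h1
    rw [he, mul_one] at h2
    have h3 : h.iso (v + w) (s + 0 + om v w) * (h.iso (w + v) (0 + s + om w v))⁻¹ = 1 := by
      rw [← h1, ← h2, mul_inv_cancel]
    rw [h.iso_inv, h.iso_mul] at h3
    have hom : om (v + w) (-(w + v)) = 0 := by simp [om]; ring
    rw [hom, show v + w + -(w + v) = (0 : Fin 2 → K) by abel] at h3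
    simp only [iso, Pi.zero_apply, pw_zero, one_mul, mul_zero, sub_zero] at h3
    have := pw_eq_one (h.Zpow h.k_mem) h.k_ne h3
    linear_combination this
  have hv : v = 0 := (by decide +kernel : ∀ v : Fin 2 → K, (∀ w, om v w = om w v) → v = 0) v hcomm
  subst hv
  refine ⟨rfl, ?_⟩
  simp only [iso, Pi.zero_apply, pw_zero, one_mul, mul_zero, sub_zero] at he
  exact pw_eq_one (h.Zpow h.k_mem) h.k_ne he

theorem iso_inj {v w : Fin 2 → K} {s t : K} (he : h.iso v s = h.iso w t) : v = w ∧ s = t := by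
  have h1 : h.iso v s * (h.iso w t)⁻¹ = 1 := by rw [he, mul_inv_cancel]
  rw [h.iso_inv, h.iso_mul] at h1
  obtain ⟨e1, e2⟩ := h.iso_eq_one h1
  rw [← sub_eq_add_neg, sub_eq_zero] at e1
  subst e1
  refine ⟨rfl, ?_⟩
  simp [om] at e2
  linear_combination e2

theorem iso_surj {r : X} (hr : r ∈ h.R) : ∃ v s, r = h.iso v s := by
  let f : (Fin 2 → K) × K → h.R := fun p => ⟨h.iso p.1 p.2, h.iso_mem _ _⟩
  have hf : Function.Injective f := fun p q e => by
    obtain ⟨e1, e2⟩ := h.iso_inj (congrArg Subtype.val e)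
    exact Prod.ext e1 e2
  have hb := hf.bijective_of_nat_card_le (by
    rw [h.cardR, Nat.card_prod, Nat.card_fun, Nat.card_zmod, Nat.card_fin]; norm_num)
  obtain ⟨p, hp⟩ := hb.2 ⟨r, hr⟩
  exact ⟨p.1, p.2, (congrArg Subtype.val hp).symm⟩

theorem iso_mem_Z {v : Fin 2 → K} {s : K} : h.iso v s ∈ h.Z ↔ v = 0 := by
  constructor
  · intro hm
    refine (by decide +kernel : ∀ v : Fin 2 → K, (∀ w, om v w = om w v) → v = 0) v fun w => ?_
    have h1 := h.Zcentral hm (h.iso w 0)
    rw [h.iso_mul, h.iso_mul] at h1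
    have := (h.iso_inj h1).2
    linear_combination -this
  · rintro rfl
    simp only [iso, Pi.zero_apply, pw_zero, one_mul, mul_zero, sub_zero]
    exact pw_mem h.k_mem _

theorem zconj_iso (v : Fin 2 → K) (s : K) : h.z * h.iso v s * h.z = h.iso (-v) s := by
  have hhom : ∀ (t : X) (n : ℕ), h.z * t ^ n * h.z = (h.z * t * h.z) ^ n := by
    intro t n
    conv_lhs => arg 2; rw [← h.z_inv]
    conv_rhs => arg 1; arg 2; rw [← h.z_inv]
    exact conj_pow.symm
  have hx : h.z * pw h.x (v 0) * h.z = pw h.x (-(v 0)) := by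
    rw [pw_neg (h.expR _ h.x_inv.1)]
    simp only [pw]; rw [hhom, h.x_inv.2, inv_pow]
  have hy : h.z * pw h.y (v 1) * h.z = pw h.y (-(v 1)) := by
    rw [pw_neg (h.expR _ h.y_inv.1)]
    simp only [pw]; rw [hhom, h.y_inv.2, inv_pow]
  have hk : h.z * pw h.k (s - v 0 * v 1) * h.z = pw h.k (s - v 0 * v 1) := by
    rw [h.Zcentral (pw_mem h.k_mem _) h.z, mul_assoc, h.z_sq, mul_one]
  simp only [iso, Pi.neg_apply, neg_mul_neg]
  calc h.z * (pw h.x (v 0) * pw h.y (v 1) * pw h.k (s - v 0 * v 1)) * h.z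
      = h.z * pw h.x (v 0) * 1 * pw h.y (v 1) * 1 * pw h.k (s - v 0 * v 1) * h.z := by group
    _ = (h.z * pw h.x (v 0) * h.z) * (h.z * pw h.y (v 1) * h.z) *
          (h.z * pw h.k (s - v 0 * v 1) * h.z) := by rw [← h.z_sq]; group
    _ = _ := by rw [hx, hy, hk]

theorem inv_iff {v : Fin 2 → K} {s : K} : h.Inv' (h.iso v s) ↔ s = 0 := by
  rw [Inv', h.zconj_iso, h.iso_inv]
  constructor
  · rintro ⟨-, e⟩
    have := (h.iso_inj e).2
    exact (by decide : ∀ s : K, s = -s → s = 0) s this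
  · rintro rfl
    exact ⟨h.iso_mem _ _, by rw [neg_zero]⟩

end Hyp

end CfsgLib.Recog.HeisSL
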